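import Cfsg.Agent.Lib.Helper28.SuzOrd.C280.DataE0
import Cfsg.Agent.Lib.Helper28.SuzOrd.C280.DataE1
import Cfsg.Agent.Lib.Helper28.SuzOrd.C280.DataE2
import Cfsg.Agent.Lib.Helper28.SuzOrd.C280.DataE3
import Cfsg.Agent.Lib.Helper28.SuzOrd.C280.DataE4
import Cfsg.Agent.Lib.Helper28.SuzOrd.C280.DataA

set_option autoImplicit false
set_option linter.unusedVariables false

namespace Cfsg.Agent.Lib.Helper28.SuzOrd.C280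

open Cfsg.Agent.Lib.Helper28.SuzSub.P5 (Gen)
open Cfsg.Agent.Lib.Helper28.TC

noncomputable section

/-- the generators -/
def gens : List Gen := [Gen.a, Gen.b, Gen.c, Gen.d, Gen.e]

theorem mem_gens (x : Gen) : x ∈ gens := by cases x <;> decide

/-- decode a generator -/
def genOf (c : ℕ) : Gen := Nat.rec (motive := fun _ => Gen) Gen.a (fun c _ => Nat.rec (motive := fun _ => Gen) Gen.b (fun c _ => Nat.rec (motive := fun _ => Gen) Gen.c (fun c _ => Nat.rec (motive := fun _ => Gen) Gen.d (fun c _ => Gen.e) c) c) c) c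

def hotE (x : Gen) : ℕ := Gen.rec (motive := fun _ => ℕ) hotE0 hotE1 hotE2 hotE3 hotE4 x
def coldE (x : Gen) : ℕ := Gen.rec (motive := fun _ => ℕ) coldE0 coldE1 coldE2 coldE3 coldE4 x
def tfT (x : Gen) : ℕ := Gen.rec (motive := fun _ => ℕ) tfT0 tfT1 tfT2 tfT3 tfT4 x

def entH (x : Gen) (u : ℕ) : ℕ := look (hotE x) 20 1048575 u
def jEc (x : Gen) (u : ℕ) : ℕ := look (coldE x) 28 268435455 u
def alH (k : ℕ) : ℕ := look hotA 20 1048575 k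
def jAc (k : ℕ) : ℕ := look coldA 60 1152921504606846975 k
def treeE (k : ℕ) : ℕ := look treeT 22 4194303 k
/-- the final coset table -/
def tf (x : Gen) (i : ℕ) : ℕ := look (tfT x) 9 511 i
/-- the final coset number of a row -/
def fin (k : ℕ) : ℕ := Nat.shiftRight (treeE k) 13
/-- the designated row of a final coset -/
def rowOf (i : ℕ) : ℕ := look rowT 9 511 i

/-- the cycle words with their reverses and lengths -/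
def cycs : List (List Gen × List Gen × ℕ) := [
  ([Gen.a, Gen.a], [Gen.a, Gen.a], 2),
  ([Gen.a, Gen.b, Gen.a, Gen.b, Gen.a, Gen.b, Gen.a, Gen.b, Gen.a, Gen.b], [Gen.b, Gen.a, Gen.b, Gen.a, Gen.b, Gen.a, Gen.b, Gen.a, Gen.b, Gen.a], 10),
  ([Gen.a, Gen.c, Gen.a, Gen.c], [Gen.c, Gen.a, Gen.c, Gen.a], 4),
  ([Gen.a, Gen.d, Gen.a, Gen.d], [Gen.d, Gen.a, Gen.d, Gen.a], 4),
  ([Gen.a, Gen.e, Gen.a, Gen.e], [Gen.e, Gen.a, Gen.e, Gen.a], 4),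
  ([Gen.b, Gen.a, Gen.b, Gen.a, Gen.b, Gen.a, Gen.b, Gen.a, Gen.b, Gen.a], [Gen.a, Gen.b, Gen.a, Gen.b, Gen.a, Gen.b, Gen.a, Gen.b, Gen.a, Gen.b], 10),
  ([Gen.b, Gen.b], [Gen.b, Gen.b], 2),
  ([Gen.b, Gen.c, Gen.b, Gen.c, Gen.b, Gen.c], [Gen.c, Gen.b, Gen.c, Gen.b, Gen.c, Gen.b], 6),
  ([Gen.b, Gen.d, Gen.b, Gen.d], [Gen.d, Gen.b, Gen.d, Gen.b], 4),
  ([Gen.b, Gen.e, Gen.b, Gen.e], [Gen.e, Gen.b, Gen.e, Gen.b], 4),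
  ([Gen.c, Gen.a, Gen.c, Gen.a], [Gen.a, Gen.c, Gen.a, Gen.c], 4),
  ([Gen.c, Gen.b, Gen.c, Gen.b, Gen.c, Gen.b], [Gen.b, Gen.c, Gen.b, Gen.c, Gen.b, Gen.c], 6),
  ([Gen.c, Gen.c], [Gen.c, Gen.c], 2),
  ([Gen.c, Gen.d, Gen.c, Gen.d, Gen.c, Gen.d, Gen.c, Gen.d, Gen.c, Gen.d, Gen.c, Gen.d, Gen.c, Gen.d, Gen.c, Gen.d], [Gen.d, Gen.c, Gen.d, Gen.c, Gen.d, Gen.c, Gen.d, Gen.c, Gen.d, Gen.c, Gen.d, Gen.c, Gen.d, Gen.c, Gen.d, Gen.c], 16),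
  ([Gen.c, Gen.e, Gen.c, Gen.e], [Gen.e, Gen.c, Gen.e, Gen.c], 4),
  ([Gen.d, Gen.a, Gen.d, Gen.a], [Gen.a, Gen.d, Gen.a, Gen.d], 4),
  ([Gen.d, Gen.b, Gen.d, Gen.b], [Gen.b, Gen.d, Gen.b, Gen.d], 4),
  ([Gen.d, Gen.c, Gen.d, Gen.c, Gen.d, Gen.c, Gen.d, Gen.c, Gen.d, Gen.c, Gen.d, Gen.c, Gen.d, Gen.c, Gen.d, Gen.c], [Gen.c, Gen.d, Gen.c, Gen.d, Gen.c, Gen.d, Gen.c, Gen.d, Gen.c, Gen.d, Gen.c, Gen.d, Gen.c, Gen.d, Gen.c, Gen.d], 16),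
  ([Gen.d, Gen.d], [Gen.d, Gen.d], 2),
  ([Gen.d, Gen.e, Gen.d, Gen.e, Gen.d, Gen.e], [Gen.e, Gen.d, Gen.e, Gen.d, Gen.e, Gen.d], 6),
  ([Gen.e, Gen.a, Gen.e, Gen.a], [Gen.a, Gen.e, Gen.a, Gen.e], 4),
  ([Gen.e, Gen.b, Gen.e, Gen.b], [Gen.b, Gen.e, Gen.b, Gen.e], 4),
  ([Gen.e, Gen.c, Gen.e, Gen.c], [Gen.c, Gen.e, Gen.c, Gen.e], 4),
  ([Gen.e, Gen.d, Gen.e, Gen.d, Gen.e, Gen.d], [Gen.d, Gen.e, Gen.d, Gen.e, Gen.d, Gen.e], 6),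
  ([Gen.e, Gen.e], [Gen.e, Gen.e], 2),
  ([Gen.a, Gen.d, Gen.c, Gen.d, Gen.c, Gen.d, Gen.c, Gen.d, Gen.c], [Gen.c, Gen.d, Gen.c, Gen.d, Gen.c, Gen.d, Gen.c, Gen.d, Gen.a], 9),
  ([Gen.b, Gen.c, Gen.d, Gen.c, Gen.d, Gen.b, Gen.c, Gen.d, Gen.c, Gen.d, Gen.b, Gen.c, Gen.d, Gen.c, Gen.d, Gen.b, Gen.c, Gen.d, Gen.c, Gen.d, Gen.b, Gen.c, Gen.d, Gen.c, Gen.d, Gen.e, Gen.b, Gen.c, Gen.d, Gen.c, Gen.d, Gen.b, Gen.c, Gen.d, Gen.c, Gen.d, Gen.b, Gen.c, Gen.d, Gen.c, Gen.d, Gen.b, Gen.c, Gen.d, Gen.c, Gen.d, Gen.b, Gen.c, Gen.d, Gen.c, Gen.d, Gen.e, Gen.b, Gen.c, Gen.d, Gen.c, Gen.d, Gen.b, Gen.c, Gen.d, Gen.c, Gen.d, Gen.b, Gen.c, Gen.d, Gen.c, Gen.d, Gen.b, Gen.c, Gen.d, Gen.c, Gen.d, Gen.b, Gen.c, Gen.d, Gen.c, Gen.d, Gen.e], [Gen.e, Gen.d, Gen.c, Gen.d, Gen.c, Gen.b, Gen.d, Gen.c, Gen.d, Gen.c, Gen.b,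 Gen.d, Gen.c, Gen.d, Gen.c, Gen.b, Gen.d, Gen.c, Gen.d, Gen.c, Gen.b, Gen.d, Gen.c, Gen.d, Gen.c, Gen.b, Gen.e, Gen.d, Gen.c, Gen.d, Gen.c, Gen.b, Gen.d, Gen.c, Gen.d, Gen.c, Gen.b, Gen.d, Gen.c, Gen.d, Gen.c, Gen.b, Gen.d, Gen.c, Gen.d, Gen.c, Gen.b, Gen.d, Gen.c, Gen.d, Gen.c, Gen.b, Gen.e, Gen.d, Gen.c, Gen.d, Gen.c, Gen.b, Gen.d, Gen.c, Gen.d, Gen.c, Gen.b, Gen.d, Gen.c, Gen.d, Gen.c, Gen.b, Gen.d, Gen.c, Gen.d, Gen.c, Gen.b, Gen.d, Gen.c, Gen.d, Gen.c, Gen.b], 78),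
  ([Gen.a], [Gen.a], 1),
  ([Gen.b], [Gen.b], 1),
  ([Gen.c], [Gen.c], 1),
  ([Gen.d], [Gen.d], 1)]

/-- the relator words -/
def relWords : List (List Gen) := [
  [Gen.a, Gen.a],
  [Gen.a, Gen.b, Gen.a, Gen.b, Gen.a, Gen.b, Gen.a, Gen.b, Gen.a, Gen.b],
  [Gen.a, Gen.c, Gen.a, Gen.c],
  [Gen.a, Gen.d, Gen.a, Gen.d],
  [Gen.a, Gen.e, Gen.a, Gen.e],
  [Gen.b, Gen.a, Gen.b, Gen.a, Gen.b, Gen.a, Gen.b, Gen.a, Gen.b, Gen.a],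
  [Gen.b, Gen.b],
  [Gen.b, Gen.c, Gen.b, Gen.c, Gen.b, Gen.c],
  [Gen.b, Gen.d, Gen.b, Gen.d],
  [Gen.b, Gen.e, Gen.b, Gen.e],
  [Gen.c, Gen.a, Gen.c, Gen.a],
  [Gen.c, Gen.b, Gen.c, Gen.b, Gen.c, Gen.b],
  [Gen.c, Gen.c],
  [Gen.c, Gen.d, Gen.c, Gen.d, Gen.c, Gen.d, Gen.c, Gen.d, Gen.c, Gen.d, Gen.c, Gen.d, Gen.c, Gen.d, Gen.c, Gen.d],
  [Gen.c, Gen.e, Gen.c, Gen.e],
  [Gen.d, Gen.a, Gen.d, Gen.a],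
  [Gen.d, Gen.b, Gen.d, Gen.b],
  [Gen.d, Gen.c, Gen.d, Gen.c, Gen.d, Gen.c, Gen.d, Gen.c, Gen.d, Gen.c, Gen.d, Gen.c, Gen.d, Gen.c, Gen.d, Gen.c],
  [Gen.d, Gen.d],
  [Gen.d, Gen.e, Gen.d, Gen.e, Gen.d, Gen.e],
  [Gen.e, Gen.a, Gen.e, Gen.a],
  [Gen.e, Gen.b, Gen.e, Gen.b],
  [Gen.e, Gen.c, Gen.e, Gen.c],
  [Gen.e, Gen.d, Gen.e, Gen.d, Gen.e, Gen.d],
  [Gen.e, Gen.e],
  [Gen.a, Gen.d, Gen.c, Gen.d, Gen.c, Gen.d, Gen.c, Gen.d, Gen.c],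
  [Gen.b, Gen.c, Gen.d, Gen.c, Gen.d, Gen.b, Gen.c, Gen.d, Gen.c, Gen.d, Gen.b, Gen.c, Gen.d, Gen.c, Gen.d, Gen.b, Gen.c, Gen.d, Gen.c, Gen.d, Gen.b, Gen.c, Gen.d, Gen.c, Gen.d, Gen.e, Gen.b, Gen.c, Gen.d, Gen.c, Gen.d, Gen.b, Gen.c, Gen.d, Gen.c, Gen.d, Gen.b, Gen.c, Gen.d, Gen.c, Gen.d, Gen.b, Gen.c, Gen.d, Gen.c, Gen.d, Gen.b, Gen.c, Gen.d, Gen.c, Gen.d, Gen.e, Gen.b, Gen.c, Gen.d, Gen.c, Gen.d, Gen.b, Gen.c, Gen.d, Gen.c, Gen.d, Gen.b, Gen.c, Gen.d, Gen.c, Gen.d, Gen.b, Gen.c, Gen.d, Gen.c, Gen.d, Gen.b, Gen.c, Gen.d, Gen.c, Gen.d, Gen.e]]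

/-- the subgroup generator words -/
def subWords : List (List Gen) := [
  [Gen.a],
  [Gen.b],
  [Gen.c],
  [Gen.d]]

/-- expressions of the further relators -/
def extraE : List (WE Gen) := [
  (WE.mul (WE.of Gen.a) (WE.inv (WE.pow (WE.mul (WE.of Gen.c) (WE.of Gen.d)) 4))),
  (WE.pow (WE.mul (WE.pow (WE.mul (WE.mul (WE.mul (WE.mul (WE.of Gen.b) (WE.of Gen.c)) (WE.of Gen.d)) (WE.of Gen.c)) (WE.of Gen.d)) 5) (WE.of Gen.e)) 3)]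

/-- expressions of the subgroup generators -/
def subE : List (WE Gen) := [
  (WE.of Gen.a),
  (WE.of Gen.b),
  (WE.of Gen.c),
  (WE.of Gen.d)]

/-- the certificate -/
def C : Cert Gen where
  par := fun k => Nat.land (treeE k) 511
  gn := fun k => genOf (Nat.land (Nat.shiftRight (treeE k) 9) 15)
  ent := fun x u => Nat.land (entH x u) 511
  rkE := fun x u => Nat.shiftRight (entH x u) 9
  jEk := fun x u => Nat.land (jEc x u) 3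
  jEa := fun x u => Nat.land (Nat.shiftRight (jEc x u) 2) 511
  jEp := fun x u => Nat.land (Nat.shiftRight (jEc x u) 11) 255
  jEz := fun x u => Nat.shiftRight (jEc x u) 19
  al := fun k => Nat.land (alH k) 511
  rkA := fun k => Nat.shiftRight (alH k) 9
  jAx := fun k => genOf (Nat.land (jAc k) 15)
  jA1k := fun k => Nat.land (Nat.shiftRight (jAc k) 4) 3
  jA1a := fun k => Nat.land (Nat.shiftRight (jAc k) 6) 511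
  jA1p := fun k => Nat.land (Nat.shiftRight (jAc k) 15) 255
  jA1z := fun k => Nat.land (Nat.shiftRight (jAc k) 23) 511
  jA2k := fun k => Nat.land (Nat.shiftRight (jAc k) 32) 3
  jA2a := fun k => Nat.land (Nat.shiftRight (jAc k) 34) 511
  jA2p := fun k => Nat.land (Nat.shiftRight (jAc k) 43) 255
  jA2z := fun k => Nat.land (Nat.shiftRight (jAc k) 51) 511
  cycW := fun ci => (nthD cycs ci ([], [], 0)).1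
  cycR := fun ci => (nthD cycs ci ([], [], 0)).2.1
  cycL := fun ci => (nthD cycs ci ([], [], 0)).2.2
  cycA := fun ci => Nat.ble 27 ci
  fuel := 5

def NN : ℕ := 440
def nn : ℕ := 280
def RR : ℕ := 1884


end

end Cfsg.Agent.Lib.Helper28.SuzOrd.C280
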