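import Cfsg.Agent.Lib.Helper28.SuzOrd.C280.Defs
import Cfsg.Agent.Lib.Helper28.TCOrbit

set_option autoImplicit false
set_option linter.unusedVariables false
set_option Elab.async false

namespace Cfsg.Agent.Lib.Helper28.SuzOrd.C280

open Cfsg.Agent.Lib.Helper28.SuzSub.P5 (Gen)
open Cfsg.Agent.Lib.Helper28.TC

noncomputable section

def orbT_c0 : ℕ := 0x5155b3107a70b5330a537066a1036a0ff53109722fb7a6f9624f86a6f54b2f54b0f24b3026a4f0626ef622ef626ec620e94b2f7624eb624e56a6df622dc4b2e2537115b4d8624d6726d55a2d55a6d8624d45a6d2430d2430d8626d0432cf434cc5a6cb5a4ca5a6c95a2c6434c55a6c45a0c3432c043704534be626bd5a0be624bc5a6bb5a4f34b2b9532b85a4b65a0b65a6cd434ce436ff534b35a6b25a2b25a6ea4b6f46a4b0526af526ad3b2ad3b6ab3b4aa3b4a63b6a53b0a53b6a95249f5269e5229e520a25269c3b09c3b69a5209a522993b098526aa3b4ac3b6e94b2955a4945269352293524d1434964b090520925328e524dd4b6dc4b68a5208a526c3436884a4874a68633485336843348433084334834a0834a48233681332813327f4a67d4a27d4a07b336c85a6794a0794a67833278336774a2774a476332734a4c1436c0430a45266f4a06f4a2ba4b6ba4b26d4a2b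75b06b4a2b5534b14b6694a2694a6993b46542065424642b6632b2632b262426602b0602b6a25245f4265e4205e4265d2b25d2b65c4225c4245b2b45a426592b4592b65861057422974b6974b6554225542692534534265263251424505344f4264e436753364d6124c3a64a2304a230493a64823248236473a2473a446234453a644236433a24423442592413a6725343f3a63e5b63d3a03e5b43b3a63a4b6393a4673b43859037326361b2361b235324341b433326321b631320321b2313262f5142e3262d5362c3222d5302c3262a516293224e4322932627512262a425134242a623136222a223130222a620492204961f2a03a4b21f2a61d4901d4941c2a61b4921b4941a226190b618220190b21822616410164141522614412144101522413416121a000034101a60f3920f392101a40e3960d3940c1260b3100c1240a3160931009312080a407296062920629000026042100421603192031940211601090000100000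
def orbT : ℕ := orbT_c0
def orbE (i : ℕ) : ℕ := look orbT 20 1048575 i
/-- orbit certificate of the orbit number `j` with root `r` -/
def OC (j r : ℕ) : OrbCert where
  inO := fun i => Nat.beq (Nat.land (orbE i) 7) j
  dep := fun i => Nat.land (Nat.shiftRight (orbE i) 3) 31
  opar := fun i => Nat.land (Nat.shiftRight (orbE i) 8) 511
  ogen := fun i => Nat.shiftRight (orbE i) 17
  root := r

def orbP1 (i : ℕ) : Bool := orbRowOK tf nn subWords (OC 1 1) i
theorem orbP1_blk0 : allRange (guard nn orbP1) 8 (0 * 2 ^ 8) = true := by decide +kernel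
theorem orbP1_blk1 : allRange (guard nn orbP1) 8 (1 * 2 ^ 8) = true := by decide +kernel
theorem orbP1_all : ∀ i, i < nn → orbP1 i = true := by
  refine all_of_blocks nn orbP1 8 2 (by decide) ?_
  intro k hk
  interval_cases k
  · exact orbP1_blk0
  · exact orbP1_blk1
theorem orb1_count : countRange (fun i => band (nlt i nn) ((OC 1 1).inO i)) 9 0 = 36 := by decide +kernel
theorem orb1_root : (OC 1 1).inO 1 = true := by decide +kernel
theorem nn_le_pow : nn ≤ 2 ^ 9 := by decide

def orbP2 (i : ℕ) : Bool := orbRowOK tf nn subWords (OC 2 8) i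
theorem orbP2_blk0 : allRange (guard nn orbP2) 8 (0 * 2 ^ 8) = true := by decide +kernel
theorem orbP2_blk1 : allRange (guard nn orbP2) 8 (1 * 2 ^ 8) = true := by decide +kernel
theorem orbP2_all : ∀ i, i < nn → orbP2 i = true := by
  refine all_of_blocks nn orbP2 8 2 (by decide) ?_
  intro k hk
  interval_cases k
  · exact orbP2_blk0
  · exact orbP2_blk1
theorem orb2_count : countRange (fun i => band (nlt i nn) ((OC 2 8).inO i)) 9 0 = 135 := by decide +kernel
theorem orb2_root : (OC 2 8).inO 8 = true := by decide +kernel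

def orbP3 (i : ℕ) : Bool := orbRowOK tf nn subWords (OC 3 25) i
theorem orbP3_blk0 : allRange (guard nn orbP3) 8 (0 * 2 ^ 8) = true := by decide +kernel
theorem orbP3_blk1 : allRange (guard nn orbP3) 8 (1 * 2 ^ 8) = true := by decide +kernel
theorem orbP3_all : ∀ i, i < nn → orbP3 i = true := by
  refine all_of_blocks nn orbP3 8 2 (by decide) ?_
  intro k hk
  interval_cases k
  · exact orbP3_blk0
  · exact orbP3_blk1
theorem orb3_count : countRange (fun i => band (nlt i nn) ((OC 3 25).inO i)) 9 0 = 108 := by decide +kernel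
theorem orb3_root : (OC 3 25).inO 25 = true := by decide +kernel


end

end Cfsg.Agent.Lib.Helper28.SuzOrd.C280
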